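import Groth.Agent.Lib.OX.RgammaZ
import Groth.Agent.Lib.OX.KoszulOrth
import Groth.Agent.Lib.ExtCech.Basic
import Groth.Agent.Lib.RGamma.CechModel
import Groth.Prelude.Def_CxOX

/-!
# The extended Čech complex represents the sections with support on an affine scheme
-/

set_option autoImplicit false
set_option backward.isDefEq.respectTransparency false
set_option linter.style.haveILetI false
set_option maxHeartbeats 1000000
universe u

open CategoryTheory CategoryTheory.Limits AlgebraicGeometry TopologicalSpace Pretriangulated DerivedCategory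

attribute [local instance] HasDerivedCategory.standard

namespace GrothLib.RZCech3

open GrothLib.OX DerCA

section Alg

variable {A : Type u} [CommRing A]

theorem isIso_Q_map {K L : DRing.Cx A} (ψ : K ⟶ L)
    (h : ∀ n, IsIso (HomologicalComplex.homologyMap ψ n)) : IsIso ((Q : _ ⥤ Dual.D A).map ψ) := by
  haveI : QuasiIso ψ := ⟨fun n => (quasiIsoAt_iff_isIso_homologyMap ψ n).2 (h n)⟩
  infer_instance

/-- Nothing maps from a torsion object to a localised one. -/
theorem eq_zero_of_torsion (f : A) {N : Dual.D A} (hN : DR.IsTorsion f N) (K : DRing.Cx A)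
    (g : N ⟶ Q.obj ((locCx (Submonoid.powers f)).obj K)) : g = 0 := by
  let S := Submonoid.powers f
  let L := (locCx S).obj K
  let e := Q.objObjPreimageIso N
  rw [← cancel_epi e.hom, comp_zero]
  obtain ⟨K'', s, hs, h, hh⟩ := DerivedCategory.right_fac (e.hom ≫ g)
  rw [hh]
  suffices hz : (Q : _ ⥤ Dual.D A).map h = 0 by rw [hz]; exact comp_zero
  have htor : ∀ (n : ℤ) (x : K''.homology n), ∃ k : ℕ, f ^ k • x = 0 := by
    intro n x
    let ε := ((homologyFunctorFactors (ModuleCat.{u} A) n).app K'').symm ≪≫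
      (homologyFunctor (ModuleCat.{u} A) n).mapIso (@asIso _ _ _ _ ((Q : _ ⥤ Dual.D A).map s) hs ≪≫ e)
    obtain ⟨k, hk⟩ := hN n (ε.hom x)
    refine ⟨k, (ModuleCat.mono_iff_injective ε.hom).1 inferInstance ?_⟩
    rw [map_smul, map_zero]
    exact hk
  have h0 : IsZero ((Q : _ ⥤ Dual.D A).obj ((locCx S).obj K'')) := by
    have hall : ∀ n : ℤ, IsZero (((locCx S).obj K'').homology n) := fun n => by
      haveI := ExtCech.isLocalizedModule_homologyMap S K'' n
      refine @ModuleCat.isZero_of_subsingleton _ _ _ (subsingleton_of_forall_eq 0 fun y => ?_)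
      obtain ⟨⟨z, t⟩, hz⟩ := IsLocalizedModule.surj S (HomologicalComplex.homologyMap (locCxUnit S K'') n).hom y
      obtain ⟨k, hk⟩ := htor n z
      have hz0 : (HomologicalComplex.homologyMap (locCxUnit S K'') n).hom z = 0 :=
        (IsLocalizedModule.eq_zero_iff S _).2 ⟨⟨_, k, rfl⟩, hk⟩
      exact ((Module.End.isUnit_iff _).1 (IsLocalizedModule.map_units
        (HomologicalComplex.homologyMap (locCxUnit S K'') n).hom t)).1
        ((hz.trans hz0).trans (smul_zero t).symm)
    let Z := (Q : _ ⥤ Dual.D A).obj ((locCx S).obj K'')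
    haveI : IsIso (0 : Z ⟶ Z) := (DerivedCategory.isIso_iff _ _).2 fun n =>
      have hz : IsZero ((homologyFunctor (ModuleCat.{u} A) n).obj Z) :=
        (hall n).of_iso ((homologyFunctorFactors (ModuleCat.{u} A) n).app ((locCx S).obj K''))
      ⟨0, hz.eq_of_src _ _, hz.eq_of_src _ _⟩
    exact (IsZero.iff_id_eq_zero Z).2 ((cancel_epi (0 : Z ⟶ Z)).1 (by simp))
  haveI : IsIso ((Q : _ ⥤ Dual.D A).map (locCxUnit S L)) := by
    refine isIso_Q_map _ fun n => ?_
    haveI := ExtCech.isLocalizedModule_homologyMap S K n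
    haveI := ExtCech.isLocalizedModule_homologyMap S L n
    rw [ConcreteCategory.isIso_iff_bijective]
    refine ExtCech.isLocalizedModule_bijective_of_isUnit (S := S) _ ?_
    exact fun t => (Module.End.isUnit_iff _).1
      (IsLocalizedModule.map_units (HomologicalComplex.homologyMap (locCxUnit S K) n).hom t)
  have hnat := congrArg (fun t => (Q : _ ⥤ Dual.D A).map t) (ExtCech.locCxUnit_naturality S h)
  simp only [Functor.map_comp] at hnat
  rw [← cancel_mono ((Q : _ ⥤ Dual.D A).map (locCxUnit S L)), zero_comp]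
  first
    | (rw [hnat]; rw [h0.eq_of_tgt ((Q : _ ⥤ Dual.D A).map (locCxUnit S K'')) 0, zero_comp])
    | (rw [← hnat]; rw [h0.eq_of_tgt ((Q : _ ⥤ Dual.D A).map (locCxUnit S K'')) 0, zero_comp])

end Alg

section Tri

/-- Postcomposition with the first map of a triangle whose third object is orthogonal. -/
theorem bijective_postcomp {C : Type*} [Category C] [HasShift C ℤ] [Preadditive C] [HasZeroObject C]
    [∀ n : ℤ, (shiftFunctor C n).Additive] [Pretriangulated C] {W : C} (T : Triangle C) (hT : T ∈ distTriang C)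
    (h : ∀ (k : ℤ) (ξ : W ⟶ T.obj₃⟦k⟧), ξ = 0) : Function.Bijective (fun a : W ⟶ T.obj₁ => a ≫ T.mor₁) := by
  refine ⟨fun a b hab => ?_, fun b => ?_⟩
  · have h0 : (a - b) ≫ T.invRotate.mor₂ = 0 := by
      change (a - b) ≫ T.mor₁ = 0
      rw [Preadditive.sub_comp, sub_eq_zero]
      exact hab
    obtain ⟨c, hc⟩ := Triangle.coyoneda_exact₂ _ (inv_rot_of_distTriang _ hT) (a - b) h0
    rw [← sub_eq_zero, hc, h (-1) c]
    exact zero_comp
  · have h0 : b ≫ T.mor₂ = 0 :=
      (cancel_mono ((shiftFunctorZero C ℤ).inv.app T.obj₃)).1 ((h 0 _).trans zero_comp.symm)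
    obtain ⟨c, hc⟩ := Triangle.coyoneda_exact₂ _ hT b h0
    exact ⟨c, hc.symm⟩

end Tri

variable {A : Type u} [CommRing A] (fs : List A) [PreservesFiniteLimits (tilde.functor (CommRingCat.of A))]

/-- Tilde on derived categories. -/
noncomputable abbrev T : Dual.D A ⥤ DCoh.D (Spec (CommRingCat.of A)) := DCoh.tildeD (CommRingCat.of A)

theorem isIso_unit_T_loc [CxOX.HasRgammaZ (Uo fs).ι] (f : A) (hf : f ∈ fs) (K : DRing.Cx A) :
    IsIso ((resDAdj (Uo fs).ι).unit.app ((T (A := A)).obj (Q.obj ((locCx (Submonoid.powers f)).obj K)))) := by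
  haveI : CompactSpace ((Uo fs : (Spec (CommRingCat.of A)).Opens) : Scheme.{u}) :=
    isCompact_iff_compactSpace.1 (isCompact_puncturedOpen fs)
  haveI : QuasiCompact (Uo fs).ι := inferInstance
  rw [← isZero_RgammaZ_iff]
  let C := (T (A := A)).obj (Q.obj ((locCx (Submonoid.powers f)).obj K))
  obtain ⟨hfull, -, hess⟩ := tildeD_full_faithful_essImage (R := CommRingCat.of A)
  haveI := hfull
  obtain ⟨N, ⟨e⟩⟩ := hess _ (isQCohD_RgammaZ (Uo fs).ι (isQCohD_tildeD (R := CommRingCat.of A) _ : DCoh.IsQCohD C))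
  have hres := (isZero_resD_RgammaZ (Uo fs).ι C).of_iso ((resD (Uo fs).ι).mapIso e)
  have hN : DR.IsTorsion f N := isTorsion_of_isZero_AG (A := CommRingCat.of A) (Uo fs).ι hres
    ((opensRange_puncturedOpen fs) ▸ le_iSup (fun k : {f // f ∈ fs} => PrimeSpectrum.basicOpen k.1) ⟨f, hf⟩)
  have hzero : (CxOX.RgammaZToId (Uo fs).ι).app C = 0 := by
    refine (cancel_epi e.hom).1 (Eq.trans ?_ comp_zero.symm)
    obtain ⟨g, hg⟩ := (T (A := A)).map_surjective (e.hom ≫ (CxOX.RgammaZToId (Uo fs).ι).app C)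
    rw [← hg, eq_zero_of_torsion f hN K g]
    exact Functor.map_zero _ _ _
  refine (IsZero.iff_id_eq_zero _).2 (eq_of_comp_RgammaZToId (Uo fs).ι (isZero_resD_RgammaZ _ C) ?_)
  rw [Category.id_comp, zero_comp]
  exact hzero

theorem hom_T_loc_eq_zero [CxOX.HasRgammaZ (Uo fs).ι] (f : A) (hf : f ∈ fs) (K : DRing.Cx A)
    {W : DCoh.D (Spec (CommRingCat.of A))} (hW : IsZero ((resD (Uo fs).ι).obj W)) (k : ℤ)
    (ξ : W ⟶ ((T (A := A)).obj (Q.obj ((locCx (Submonoid.powers f)).obj K)))⟦k⟧) : ξ = 0 := by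
  obtain ⟨x, hx⟩ := (shiftFunctor (DCoh.D (Spec (CommRingCat.of A))) k).map_surjective
    ((shiftEquiv (DCoh.D (Spec (CommRingCat.of A))) k).counitIso.hom.app W ≫ ξ)
  have hz : IsZero ((resD (Uo fs).ι).obj (W⟦(-k : ℤ)⟧)) :=
    ((shiftFunctor _ (-k : ℤ)).map_isZero hW).of_iso (((resD (Uo fs).ι).commShiftIso (-k : ℤ)).app W)
  have h3 := @eq_zero_of_comp_local _ _ (Uo fs).ι _ _ _ hz (isIso_unit_T_loc fs f hf K) x
  rw [h3] at hx
  exact (cancel_epi ((shiftEquiv (DCoh.D (Spec (CommRingCat.of A))) k).counitIso.hom.app W)).1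
    (hx.symm.trans ((Functor.map_zero _ _ _).trans comp_zero.symm))

theorem exists_bijective [CxOX.HasRgammaZ (Uo fs).ι] (M : ModuleCat.{u} A) : ∀ gs : List A, (∀ g ∈ gs, g ∈ fs) →
    ∃ φ : (T (A := A)).obj (Q.obj (extCech M gs)) ⟶ (T (A := A)).obj (Q.obj (extCech M [])),
      ∀ W : DCoh.D (Spec (CommRingCat.of A)), IsZero ((resD (Uo fs).ι).obj W) →
        Function.Bijective (fun a : W ⟶ (T (A := A)).obj (Q.obj (extCech M gs)) => a ≫ φ) := by
  intro gs
  induction gs with
  | nil =>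
    exact fun _ => ⟨𝟙 _, fun W _ => ⟨fun a b h => by simpa using h, fun b => ⟨b, Category.comp_id b⟩⟩⟩
  | cons g gs ih =>
    intro hgs
    obtain ⟨φ, hφ⟩ := ih fun x hx => hgs x (List.mem_cons_of_mem _ hx)
    have hT := (T (A := A)).map_distinguished _
      (RGamma.cocone_distinguished_Q (locCxUnit (Submonoid.powers g) (extCech M gs)))
    refine ⟨(T (A := A)).map (Q.map (CochainComplex.mappingCocone.fst
      (locCxUnit (Submonoid.powers g) (extCech M gs)))) ≫ φ, fun W hW => ?_⟩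
    have h1 := bijective_postcomp (W := W) _ hT
      (fun k ξ => hom_T_loc_eq_zero fs g (hgs g List.mem_cons_self) _ hW k ξ)
    have h2 := (hφ W hW).comp h1
    refine (congrArg Function.Bijective (funext fun a => ?_)).mpr h2
    exact (Category.assoc _ _ _).symm

theorem isZero_resD_T_cech (M : ModuleCat.{u} A) :
    IsZero ((resD (Uo fs).ι).obj ((T (A := A)).obj (Q.obj (extCech M fs)))) :=
  isZero_AG_of_isTorsion (A := CommRingCat.of A) (Uo fs).ι (opensRange_puncturedOpen fs)
    fun f hf q x => by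
      let ε := (homologyFunctorFactors (ModuleCat.{u} A) q).app (extCech M fs)
      obtain ⟨k, hk⟩ := ExtCech.exists_pow_smul_eq_zero fs M q (ε.hom x) f hf
      refine ⟨k, (ModuleCat.mono_iff_injective ε.hom).1 inferInstance ?_⟩
      rw [map_smul, map_zero]
      exact hk

theorem nonempty_iso [CxOX.HasRgammaZ (Uo fs).ι] (M : ModuleCat.{u} A) :
    Nonempty ((T (A := A)).obj (DRing.toD (extCech M fs)) ≅
      (CxOX.RgammaZ (Uo fs).ι).obj ((T (A := A)).obj (Dual.inD A M))) := by
  obtain ⟨φ, hφ⟩ := exists_bijective fs M fs fun g hg => hg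
  let η : (T (A := A)).obj (Q.obj (extCech M [])) ≅ (T (A := A)).obj (Dual.inD A M) :=
    (T (A := A)).mapIso (RGamma.singIso.app M)
  have hres := isZero_resD_T_cech fs M
  obtain ⟨α, hα⟩ := exists_lift_RgammaZ (Uo fs).ι hres (φ ≫ η.hom)
  have hR := isZero_resD_RgammaZ (Uo fs).ι ((T (A := A)).obj (Dual.inD A M))
  obtain ⟨β, hβ⟩ := (hφ _ hR).2 ((CxOX.RgammaZToId (Uo fs).ι).app ((T (A := A)).obj (Dual.inD A M)) ≫ η.inv)
  refine ⟨⟨α, β, (hφ _ hres).1 ?_, eq_of_comp_RgammaZToId (Uo fs).ι hR ?_⟩⟩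
  · show (α ≫ β) ≫ φ = 𝟙 _ ≫ φ
    rw [Category.assoc, show β ≫ φ = _ from hβ, ← Category.assoc, hα, Category.assoc, η.hom_inv_id,
      Category.comp_id, Category.id_comp]
  · rw [Category.assoc, hα, ← Category.assoc, show β ≫ φ = _ from hβ, Category.assoc, η.inv_hom_id]
    exact (Category.comp_id _).trans (Category.id_comp _).symm

end GrothLib.RZCech3
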